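import Groth.Agent.UnipSplit.Dense
import Groth.Agent.Chev.RedCentre
import Groth.Agent.SchFinB.Schematic
import Groth.Agent.MTBridge.Charts

/-!
# Unipotent Hopf algebras over perfect fields are polynomial algebras
-/

set_option autoImplicit false
set_option linter.style.haveILetI false
set_option backward.isDefEq.respectTransparency false
set_option maxHeartbeats 1000000
set_option synthInstance.maxHeartbeats 400000

universe u

open CategoryTheory Limits MonoidalCategory CartesianMonoidalCategory MonObj GrpObj AlgebraicGeometry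
open Groth.Agent.MTBridge (specGrp)

noncomputable section

namespace Groth.Agent.UnipSplit

variable {k : Type u} [Field k] {C : Type u} [CommRing C] [HopfAlgebra k C]

/-- Unipotent groups have no subtori. -/
theorem hasNoSubtorus_spec (hC : HopfRep.IsUnipotent k C) : Red.HasNoSubtorus k (specGrp k C).X := by
  intro T _ j _ _ hT
  have h := Chev.RedCentre.eq_one_unipotent hC (𝟙 _) (Red.bc (𝟙 _) T)
    (MTBridge.isMultTypeFT_bc T (𝟙 _) (MTBridge.isMultTypeFT_of_isTorus T hT))
    ((Over.pullback (𝟙 (Spec (CommRingCat.of k)))).map j)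
  have hj : j = 1 := by
    apply (Over.pullback (𝟙 (Spec (CommRingCat.of k)))).map_injective
    rw [h, Functor.map_one]
  haveI : IsIso (toUnit T) := ⟨η[T], by
    rw [← Hom.one_def, ← cancel_mono j, MonObj.one_comp, Category.id_comp, hj], toUnit_unique _ _⟩
  exact inferInstanceAs (IsIso ((Over.forget _).map (toUnit T)))

/-- **Smooth connected unipotent groups over perfect fields have polynomial coordinate rings.** -/
theorem exists_algEquiv [PerfectField k] [Algebra.FiniteType k C] [Algebra.FormallySmooth k C]
    (hC : HopfRep.IsUnipotent k C) (hconn : ∀ e : C, IsIdempotentElem e → e = 0 ∨ e = 1) :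
    ∃ n : ℕ, Nonempty (C ≃ₐ[k] MvPolynomial (Fin n) k) := by
  haveI : Algebra.FinitePresentation k C := Algebra.FinitePresentation.of_finiteType.1 inferInstance
  haveI : Algebra.Smooth k C := ⟨inferInstance, inferInstance⟩
  haveI : Nontrivial C := (Bialgebra.counitAlgHom k C).toRingHom.domain_nontrivial
  let U := (specGrp k C).X
  haveI : IsAffine U.left := inferInstanceAs (IsAffine (Spec (CommRingCat.of C)))
  haveI : ConnectedSpace U.left :=
    show ConnectedSpace (PrimeSpectrum C) from (SchFinB.connectedSpace_iff_idem C).2 ⟨inferInstance, hconn⟩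
  haveI : Smooth U.hom :=
    (HasRingHomProperty.Spec_iff (P := @Smooth)).2 (RingHom.smooth_algebraMap.2 inferInstance)
  obtain ⟨n, ⟨e⟩⟩ := exists_coord' U (hasNoSubtorus_spec hC)
  haveI : IsIso e.hom.left := inferInstanceAs (IsIso ((Over.forget _).map e.hom))
  obtain ⟨φ, hφ⟩ : ∃ φ : CommRingCat.of C ⟶ CommRingCat.of (MvPolynomial (Fin n) k), Spec.map φ = e.hom.left :=
    ⟨Spec.preimage e.hom.left, Spec.map_preimage _⟩
  haveI : IsIso (Spec.map φ) := by rw [hφ]; infer_instance
  haveI : IsIso (Scheme.Spec.map φ.op) := ‹IsIso (Spec.map φ)›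
  haveI : IsIso φ.op := isIso_of_reflects_iso φ.op Scheme.Spec
  haveI : IsIso φ := isIso_of_op φ
  have hcomm : ∀ c : k, φ (algebraMap k C c) = algebraMap k (MvPolynomial (Fin n) k) c := fun c => by
    have hw : Spec.map φ ≫ U.hom = Spec.map (CommRingCat.ofHom (algebraMap k (MvPolynomial (Fin n) k))) := by
      rw [hφ]; exact Over.w e.hom
    rw [show U.hom = Spec.map (CommRingCat.ofHom (algebraMap k C)) from rfl, ← Spec.map_comp, Spec.map_inj] at hw
    exact RingHom.congr_fun (congrArg CommRingCat.Hom.hom hw) c
  exact ⟨n, ⟨AlgEquiv.ofRingEquiv (f := (asIso φ).commRingCatIsoToRingEquiv) hcomm⟩⟩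

end Groth.Agent.UnipSplit
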