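import Groth.Agent.UnipSplit.Coord
import Mathlib.Algebra.MvPolynomial.Funext

/-!
# Rational points of unipotent groups over infinite perfect fields
-/

set_option autoImplicit false
set_option linter.style.haveILetI false
set_option backward.isDefEq.respectTransparency false
set_option maxHeartbeats 1000000
set_option synthInstance.maxHeartbeats 400000

universe u

open CategoryTheory Limits MonoidalCategory CartesianMonoidalCategory MonObj GrpObj AlgebraicGeometry

noncomputable section

namespace Groth.Agent.UnipSplit

open Groth.Agent.DensePtsGrp (DensePts)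

variable {k : Type u} [Field k]

/-- Unipotent groups over perfect fields are affine spaces. -/
theorem exists_coord' [PerfectField k] (U : Over (Spec (CommRingCat.of k))) [GrpObj U] [IsAffine U.left]
    [Smooth U.hom] [ConnectedSpace U.left] (hU : Red.HasNoSubtorus k U) :
    ∃ n : ℕ, Nonempty (spk k (MvPolynomial (Fin n) k) ≅ U) := by
  haveI : IsAffineHom U.hom := isAffineHom_of_isAffine _
  obtain ⟨d, hd⟩ := Chev.exists_natDim' U
  exact exists_coord (d + 1) U hU (by rw [hd]; exact_mod_cast Nat.lt_succ_self d)

/-- Rational points of affine space over an infinite field are dense. -/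
theorem densePts_spk [Infinite k] (n : ℕ) : DensePts (spk k (MvPolynomial (Fin n) k)) := by
  let A := MvPolynomial (Fin n) k
  let S : Set (PrimeSpectrum A) :=
    Set.range fun x : A →ₐ[k] k => PrimeSpectrum.comap x.toRingHom (IsLocalRing.closedPoint k)
  have hS : Dense S := by
    refine PrimeSpectrum.isTopologicalBasis_basic_opens.dense_iff.2 ?_
    rintro _ ⟨a, rfl⟩ ⟨P, hP⟩
    have ha : a ≠ 0 := fun h0 => hP (by rw [h0]; exact P.asIdeal.zero_mem)
    obtain ⟨x, hx⟩ : ∃ x : Fin n → k, MvPolynomial.eval x a ≠ 0 := by
      by_contra! h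
      exact ha (MvPolynomial.funext fun x => by simp [h x])
    refine ⟨_, fun hmem => hx ?_, MvPolynomial.aeval x, rfl⟩
    have h : MvPolynomial.aeval x a ∈ (IsLocalRing.closedPoint k).asIdeal := hmem
    rw [show (IsLocalRing.closedPoint k).asIdeal = (⊥ : Ideal k) from IsLocalRing.maximalIdeal_eq_bot,
      Ideal.mem_bot, MvPolynomial.aeval_def, Algebra.algebraMap_self] at h
    exact h
  refine Dense.mono ?_ hS
  rintro _ ⟨x, rfl⟩
  refine ⟨Over.homMk (Spec.map (CommRingCat.ofHom x.toRingHom)) ?_, rfl⟩
  show Spec.map _ ≫ Spec.map _ = 𝟙 _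
  rw [← Spec.map_comp, ← Spec.map_id]
  exact congrArg Spec.map (CommRingCat.hom_ext (RingHom.ext fun c => x.commutes c))

/-- **Rational points of unipotent groups over infinite perfect fields are dense.** -/
theorem densePts_noSubtorus [PerfectField k] [Infinite k] (U : Over (Spec (CommRingCat.of k))) [GrpObj U]
    [IsAffine U.left] [Smooth U.hom] [ConnectedSpace U.left] (hU : Red.HasNoSubtorus k U) : DensePts U := by
  obtain ⟨n, ⟨e⟩⟩ := exists_coord' U hU
  haveI : IsIso e.hom.left := inferInstanceAs (IsIso ((Over.forget _).map e.hom))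
  exact DensePtsGrp.densePts_of_surjective e.hom (densePts_spk n)

end Groth.Agent.UnipSplit
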