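import Groth.Agent.UnipSplit.CentralGa
import Groth.Agent.Takeuchi.Quot
import Groth.Agent.S7983
import Groth.Agent.S8429
import Groth.Agent.Chev.GaSection
import Groth.Agent.DensePtsGrp.Main
import Groth.Agent.MTImage.RankSemicont
import Groth.Agent.RedR1.GaSpace
import Mathlib.RingTheory.KrullDimension.Polynomial

/-!
# Unipotent groups over perfect fields are affine spaces
-/

set_option autoImplicit false
set_option linter.style.haveILetI false
set_option backward.isDefEq.respectTransparency false
set_option maxHeartbeats 1000000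
set_option synthInstance.maxHeartbeats 400000

universe u

open CategoryTheory Limits MonoidalCategory CartesianMonoidalCategory MonObj GrpObj AlgebraicGeometry
open scoped TensorProduct
open Groth.Agent.GrMax (fieldMap)

noncomputable section

namespace Groth.Agent.UnipSplit

variable {k : Type u} [Field k]

/-- Groups without subtori stay so under quotients by central subgroups. -/
theorem noSubtorus_quotient {G Q : Over (Spec (CommRingCat.of k))} [GrpObj G] [GrpObj Q] [IsAffine G.left]
    [Smooth G.hom] [ConnectedSpace G.left] [IsAffine Q.left] [Smooth Q.hom] [ConnectedSpace Q.left]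
    (q : G ⟶ Q) [IsMonHom q] [Surjective q.left]
    (hker : ∀ (X : Over (Spec (CommRingCat.of k))) (z : X ⟶ G), z ≫ q = 1 →
      ∀ (X' : Over (Spec (CommRingCat.of k))) (x : X' ⟶ X) (g : X' ⟶ G), (x ≫ z) * g = g * (x ≫ z))
    (hG : Red.HasNoSubtorus k G) : Red.HasNoSubtorus k Q := by
  intro T' _ j _ _ hT'
  haveI : IsAffineHom G.hom := isAffineHom_of_isAffine _
  haveI : IsAffineHom Q.hom := isAffineHom_of_isAffine _
  haveI : Subsingleton ↥(Spec (CommRingCat.of k)) := inferInstanceAs (Subsingleton (PrimeSpectrum k))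
  let L := AlgebraicClosure k
  let f := fieldMap (k := k) L
  let F := Over.pullback f
  haveI : IsAffineHom (Red.bc f Q).hom := inferInstanceAs (IsAffineHom (pullback.snd Q.hom f))
  haveI : IsAffine (Red.bc f Q).left := isAffine_of_isAffineHom (Red.bc f Q).hom
  haveI : Smooth (Red.bc f Q).hom := inferInstanceAs (Smooth (pullback.snd Q.hom f))
  haveI : IsAffineHom (Red.bc f G).hom := inferInstanceAs (IsAffineHom (pullback.snd G.hom f))
  haveI : IsAffine (Red.bc f G).left := isAffine_of_isAffineHom (Red.bc f G).hom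
  haveI : Smooth (Red.bc f G).hom := inferInstanceAs (Smooth (pullback.snd G.hom f))
  haveI : ConnectedSpace (Red.bc f G).left := AutFinOrd.connectedSpace_bc f G
  obtain ⟨S, _, s, hs⟩ := GrMax.exists_maxTorus Q
  obtain ⟨T, _, i, v, hi, hv, -, hvs, -⟩ := (Groth.Agent.S8429.result _ G Q (DensePtsGrp.hasMaxTorus G) q
    (fun x => S8434.surjective_map (Red.geomPt x) q) hker).1 S s hs
  haveI := hi.1; haveI := hi.2.1
  haveI : IsIso T.hom := hG T i hi.2.2.1
  haveI := hvs
  haveI := Chev.smooth_of_isTorus hs.2.2.1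
  haveI : Subsingleton T.left := ⟨fun a b => by
    apply T.hom.homeomorph.injective
    exact Subsingleton.elim _ _⟩
  haveI : Subsingleton S.left := v.left.surjective.subsingleton
  haveI : IsReduced S.left := SmoothRed.isReduced_of_smooth_scheme S.hom
  haveI : IsSeparated S.hom := GrpField.isSeparated_hom S
  haveI := GrpField.isClosedImmersion_eta S
  haveI : Surjective η[S].left := ⟨fun y => ⟨IsLocalRing.closedPoint k, Subsingleton.elim _ _⟩⟩
  haveI : IsIso η[S].left := isIso_of_isClosedImmersion_of_surjective η[S].left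
  haveI : IsIso S.hom := by
    have he : η[S].left ≫ S.hom = 𝟙 _ := Over.w η[S]
    rw [show S.hom = inv η[S].left by rw [← cancel_epi η[S].left, he, IsIso.hom_inv_id]]
    infer_instance
  haveI : PreservesLimitsOfShape WalkingCospan F :=
    (Adjunction.rightAdjoint_preservesLimits (Over.mapPullbackAdj _)).preservesLimitsOfShape
  have hQL : Red.HasNoSubtorus L (Red.bc f Q) := by
    intro T'' _ j'' _ _ hT''
    haveI : ConnectedSpace (Red.bc f Q).left := AutFinOrd.connectedSpace_bc f Q
    obtain ⟨T₁, _, i₁, r, hi₁, hr⟩ := MTImage.exists_maxTorus_containing j'' hT''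
    haveI := hi₁.1; haveI := hi₁.2.1
    obtain ⟨g, φ, -, -⟩ := Chev.Borel.maxTorus_conj _ _ hi₁
      (Chev.Borel.isMaxTorus_of_isMaximalTorus _ (Chev.MaxTorusBC.isMaximalTorus_bc s hs f))
    haveI : IsIso (F.obj S).hom := inferInstanceAs (IsIso (pullback.snd S.hom f))
    haveI : IsIso φ.hom.left := inferInstanceAs (IsIso ((Over.forget _).map φ.hom))
    haveI : IsIso T₁.hom := by rw [← Over.w φ.hom]; infer_instance
    haveI : IsMonHom r := MTSplit.isMonHom_of_comp_mono r i₁ j'' hr
    haveI : Mono (r ≫ i₁) := by rw [hr]; infer_instance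
    haveI : Mono r := mono_of_mono r i₁
    haveI : IsSplitEpi r := ⟨⟨toUnit T₁ ≫ η[T''], by
      refine Over.OverMorphism.ext ((cancel_mono T₁.hom).1 ?_)
      rw [Over.w, Over.w]⟩⟩
    haveI : IsIso r := isIso_of_mono_of_isSplitEpi r
    haveI : IsIso r.left := inferInstanceAs (IsIso ((Over.forget _).map r))
    show IsIso T''.hom
    rw [← Over.w r]
    infer_instance
  exact (GrMax.hasNoSubtorus_bc_iff Q).2 hQL T' j hT'

/-- The spectrum of an algebra as an object over the field. -/
abbrev spk (k A : Type u) [Field k] [CommRing A] [Algebra k A] : Over (Spec (CommRingCat.of k)) :=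
  Over.mk (Spec.map (CommRingCat.ofHom (algebraMap k A)))

/-- Isomorphic algebras have isomorphic spectra. -/
def spkIso {A B : Type u} [CommRing A] [Algebra k A] [CommRing B] [Algebra k B] (e : A ≃ₐ[k] B) : spk k B ≅ spk k A :=
  Over.isoMk (Scheme.Spec.mapIso e.toRingEquiv.toCommRingCatIso.op) (by
    show Spec.map _ ≫ Spec.map _ = Spec.map _
    rw [← Spec.map_comp]
    exact congrArg Spec.map (CommRingCat.hom_ext (RingHom.ext fun c => e.commutes c)))

/-- Products of affine schemes over a field. -/
def spkTensor (A B : Type u) [CommRing A] [Algebra k A] [CommRing B] [Algebra k B] :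
    spk k A ⊗ spk k B ≅ spk k (A ⊗[k] B) :=
  Over.isoMk (pullbackSpecIso k A B) (by
    show (pullbackSpecIso k A B).hom ≫ _ = pullback.fst _ _ ≫ Spec.map _
    rw [← Iso.eq_inv_comp, ← Category.assoc, pullbackSpecIso_inv_fst]
    show Spec.map _ = Spec.map _ ≫ Spec.map _
    rw [← Spec.map_comp]
    rfl)

/-- The additive group is the affine line. -/
def gaSpk : Red.Ga (Spec (CommRingCat.of k)) ≅ spk k (MvPolynomial PUnit.{u + 1} k) :=
  (RedR1.gaIso _).symm ≪≫ Over.isoMk (AffineSpace.SpecIso PUnit.{u + 1} (CommRingCat.of k)) (by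
    rw [← Iso.eq_inv_comp]
    exact (AffineSpace.SpecIso_inv_over (n := PUnit.{u + 1}) (CommRingCat.of k)).symm)

/-- **Unipotent groups over perfect fields are affine spaces.** -/
theorem exists_coord [PerfectField k] : ∀ (d : ℕ) (U : Over (Spec (CommRingCat.of k))) [GrpObj U] [IsAffine U.left]
    [Smooth U.hom] [ConnectedSpace U.left], Red.HasNoSubtorus k U → topologicalKrullDim U.left < (d : ℕ) →
      ∃ n : ℕ, Nonempty (spk k (MvPolynomial (Fin n) k) ≅ U) := by
  intro d
  induction d with
  | zero =>
    intro U _ _ _ _ _ h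
    exfalso
    haveI : IsAffineHom U.hom := isAffineHom_of_isAffine _
    obtain ⟨d, hd⟩ := Chev.exists_natDim' U
    rw [hd] at h
    exact absurd (Nat.cast_lt (α := WithBot ℕ∞).1 h) (Nat.not_lt_zero d)
  | succ d IH =>
    intro U _ _ _ _ hU hdim
    haveI : IsAffineHom U.hom := isAffineHom_of_isAffine _
    by_cases hiso : IsIso U.hom
    · haveI : IsIso (CommRingCat.ofHom (algebraMap k (MvPolynomial (Fin 0) k))) :=
        (ConcreteCategory.isIso_iff_bijective _).2 ⟨(algebraMap k _).injective, fun q =>
          ⟨MvPolynomial.isEmptyAlgEquiv k (Fin 0) q, (MvPolynomial.isEmptyAlgEquiv k (Fin 0)).symm_apply_apply q⟩⟩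
      exact ⟨0, ⟨Over.isoMk (asIso (Spec.map (CommRingCat.ofHom (algebraMap k (MvPolynomial (Fin 0) k)))) ≪≫
        (asIso U.hom).symm) (by simp)⟩⟩
    obtain ⟨i, hi, hic, hcent⟩ := exists_central_ga U hU hiso
    haveI := hi; haveI := hic
    haveI : Mono i := GrpField.SchImg.mono_of_isClosedImmersion i
    obtain ⟨Q, _, q, hq, hQa, hQl, hqf, hqs, hk⟩ := Takeuchi.exists_affine_quotient U (Red.Ga _) i
      (fun T g n => ⟨n, by rw [← hcent T n g, mul_inv_cancel_right]⟩)
    haveI := hq; haveI := hQa; haveI := hQl; haveI := hqf; haveI := hqs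
    haveI : IsAffineHom Q.hom := isAffineHom_of_isAffine _
    obtain ⟨-, hQsm, hQcn⟩ := Groth.Agent.S7983.result k U Q q
    haveI : Smooth Q.hom := hQsm inferInstance
    haveI : ConnectedSpace Q.left := hQcn inferInstance
    have hker : ∀ (X : Over (Spec (CommRingCat.of k))) (z : X ⟶ U), z ≫ q = 1 →
        ∀ (X' : Over (Spec (CommRingCat.of k))) (x : X' ⟶ X) (g : X' ⟶ U), (x ≫ z) * g = g * (x ≫ z) := by
      intro X z hz X' x g
      obtain ⟨w, hw, -⟩ := hk.exists_lift z (toUnit _) hz
      rw [← hw, ← Category.assoc]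
      exact hcent X' (x ≫ w) g
    have hQ : Red.HasNoSubtorus k Q := noSubtorus_quotient q hker hU
    obtain ⟨s, hs⟩ := Chev.GaSection.exists_section q i hk
    haveI : CompactSpace U.left := inferInstance
    let rest : U ⟶ Red.Ga (Spec (CommRingCat.of k)) := hk.lift (𝟙 U * (q ≫ s)⁻¹) (toUnit _) (by
      rw [MonObj.mul_comp, GrpObj.inv_comp, Category.assoc, hs, Category.id_comp, Category.comp_id,
        mul_inv_cancel, Hom.one_def])
    have hrest : rest ≫ i = 𝟙 U * (q ≫ s)⁻¹ := hk.lift_fst _ _ _
    let Φ : Red.Ga (Spec (CommRingCat.of k)) ⊗ Q ≅ U :=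
      { hom := (fst _ Q ≫ i) * (snd (Red.Ga _) Q ≫ s)
        inv := lift rest q
        hom_inv_id := by
          have h2 : ((fst (Red.Ga (Spec (CommRingCat.of k))) Q ≫ i) * (snd _ Q ≫ s)) ≫ q = snd _ Q := by
            rw [MonObj.mul_comp, Category.assoc, Category.assoc, hs, Category.comp_id, hk.w,
              ← Category.assoc, toUnit_unique (fst _ Q ≫ toUnit _) (toUnit _), ← Hom.one_def, _root_.one_mul]
          refine CartesianMonoidalCategory.hom_ext _ _ ?_ ?_
          · rw [Category.assoc, lift_fst, Category.id_comp, ← cancel_mono i, Category.assoc, hrest,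
              MonObj.comp_mul, GrpObj.comp_inv, Category.comp_id, ← Category.assoc, h2, mul_inv_cancel_right]
          · rw [Category.assoc, lift_snd, h2, Category.id_comp]
        inv_hom_id := by
          rw [MonObj.comp_mul, lift_fst_assoc, lift_snd_assoc, hrest, inv_mul_cancel_right] }
    obtain ⟨B, _, eB, -⟩ := FinHopf.exists_hopf (R := CommRingCat.of k) Q
    let eQ : spk k B ≅ Q := eB
    let eU : spk k (Polynomial B) ≅ U :=
      spkIso ((Algebra.TensorProduct.comm k (MvPolynomial PUnit.{u + 1} k) B).trans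
        ((Algebra.TensorProduct.congr AlgEquiv.refl (MvPolynomial.uniqueAlgEquiv k PUnit.{u + 1})).trans
          (polyEquivTensor k B).symm)) ≪≫ (spkTensor _ _).symm ≪≫ MonoidalCategory.tensorIso gaSpk.symm eQ ≪≫ Φ
    haveI : IsIso eU.hom.left := inferInstanceAs (IsIso ((Over.forget _).map eU.hom))
    haveI : IsIso eQ.hom.left := inferInstanceAs (IsIso ((Over.forget _).map eQ.hom))
    have hBnoeth : IsNoetherianRing B := by
      haveI : Algebra.FiniteType k B := by
        have h0 : LocallyOfFiniteType (eQ.hom.left ≫ Q.hom) := inferInstance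
        rw [Over.w eQ.hom] at h0
        exact RingHom.finiteType_algebraMap.1 ((HasRingHomProperty.Spec_iff (P := @LocallyOfFiniteType)).1 h0)
      exact Algebra.FiniteType.isNoetherianRing k B
    have hdQ : topologicalKrullDim Q.left < (d : ℕ) := by
      have h1 : topologicalKrullDim U.left = ringKrullDim (Polynomial B) := by
        rw [← PrimeSpectrum.topologicalKrullDim_eq_ringKrullDim (Polynomial B)]
        exact (IsHomeomorph.topologicalKrullDim_eq _ eU.hom.left.homeomorph.isHomeomorph).symm
      have h2 : topologicalKrullDim Q.left = ringKrullDim B := by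
        rw [← PrimeSpectrum.topologicalKrullDim_eq_ringKrullDim B]
        exact (IsHomeomorph.topologicalKrullDim_eq _ eQ.hom.left.homeomorph.isHomeomorph).symm
      obtain ⟨e, he⟩ := Chev.exists_natDim' Q
      rw [h1, Polynomial.ringKrullDim_of_isNoetherianRing, ← h2, he] at hdim
      rw [he]
      have : e + 1 < d + 1 := Nat.cast_lt (α := WithBot ℕ∞).1 (by push_cast; exact hdim)
      exact_mod_cast (show e < d by omega)
    obtain ⟨n, ⟨eP⟩⟩ := IH Q hQ hdQ
    exact ⟨n + 1, ⟨spkIso (((Algebra.TensorProduct.comm k (MvPolynomial PUnit.{u + 1} k) (MvPolynomial (Fin n) k)).trans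
        ((Algebra.TensorProduct.congr AlgEquiv.refl (MvPolynomial.uniqueAlgEquiv k PUnit.{u + 1})).trans
          (polyEquivTensor k _).symm)).trans (MvPolynomial.finSuccEquiv k n).symm) ≪≫
        (spkTensor _ _).symm ≪≫ MonoidalCategory.tensorIso gaSpk.symm eP ≪≫ Φ⟩⟩

end Groth.Agent.UnipSplit
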