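import Groth.Agent.Chev.BorelFixed

/-!
# Connected nilpotent groups over an algebraically closed field have infinite centre
-/

set_option autoImplicit false
set_option linter.style.haveILetI false
set_option backward.isDefEq.respectTransparency false

universe u

open CategoryTheory CategoryTheory.Limits MonoidalCategory CartesianMonoidalCategory MonObj GrpObj AlgebraicGeometry
open Groth.Agent.SubGen (rpt exists_rpt rpt_injective rpt_mem_closedPoints map_rpt)
open Groth.Agent.Chev (RP)

noncomputable section

namespace Groth.Agent.UnipSplit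

variable {k : Type u} [Field k] [IsAlgClosed k]

/-- A connected smooth group with nilpotent group of rational points and finite centre is trivial on points. -/
theorem eq_one_of_finite_centre {G : Over (Spec (CommRingCat.of k))} [GrpObj G] [LocallyOfFiniteType G.hom]
    [ConnectedSpace G.left] [Group.IsNilpotent (RP G)] (h : (Subgroup.center (RP G) : Set (RP G)).Finite)
    (g : RP G) : g = 1 := by
  haveI : JacobsonSpace G.left := LocallyOfFiniteType.jacobsonSpace G.hom
  have hclosed : ∀ q : RP G, IsClosed {rpt q} := fun q => mem_closedPoints_iff.1 (rpt_mem_closedPoints q)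
  -- a closed set containing the points of a finite set of rational points is that set
  have key : ∀ (f : G ⟶ G) (S : Set (RP G)), S.Finite → (∀ a : RP G, a ≫ f ∈ S) → ∀ a : RP G, a ≫ f = (1 : RP G) ≫ f := by
    intro f S hS hf a
    let c := rpt ((1 : RP G) ≫ f)
    have hcl : IsClosed (rpt '' S) := by
      rw [← Set.biUnion_of_singleton (rpt '' S)]
      exact (hS.image rpt).isClosed_biUnion fun w ⟨q, _, hq⟩ => hq ▸ hclosed q
    have hcov : ∀ w : G.left, f.left w ∈ rpt '' S := by
      intro w
      have hsub : closure (closedPoints G.left) ⊆ f.left ⁻¹' (rpt '' S) := by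
        refine closure_minimal (fun v hv => ?_) (hcl.preimage f.left.continuous)
        obtain ⟨q, rfl⟩ := exists_rpt hv
        exact ⟨q ≫ f, hf q, (map_rpt f q).symm⟩
      exact hsub (by rw [closure_closedPoints]; trivial)
    have hA : IsClopen (f.left ⁻¹' {c}) := by
      refine ⟨(hclosed _).preimage f.left.continuous, ?_⟩
      rw [← isClosed_compl_iff]
      have : (f.left ⁻¹' {c})ᶜ = f.left ⁻¹' (rpt '' S \ {c}) := by
        ext w
        exact ⟨fun hw => ⟨hcov w, hw⟩, fun hw => hw.2⟩
      rw [this]
      refine IsClosed.preimage f.left.continuous ?_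
      rw [← Set.biUnion_of_singleton (rpt '' S \ {c})]
      exact ((hS.image rpt).sdiff).isClosed_biUnion fun w hw => by
        obtain ⟨q, -, rfl⟩ := hw.1
        exact hclosed q
    have huniv : f.left ⁻¹' {c} = Set.univ :=
      hA.eq_univ ⟨rpt (1 : RP G), map_rpt f _⟩
    exact rpt_injective ((map_rpt f a).symm.trans (huniv.ge (Set.mem_univ (rpt a))))
  have h2 : ∀ n, Subgroup.upperCentralSeries (RP G) n ≤ Subgroup.center (RP G) := by
    intro n
    induction n with
    | zero => rw [Subgroup.upperCentralSeries_zero]; exact bot_le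
    | succ n ih =>
      intro z hz
      rw [Subgroup.mem_upperCentralSeries_succ_iff] at hz
      let f : G ⟶ G := (toUnit G ≫ z) * 𝟙 G * (toUnit G ≫ z)⁻¹ * (𝟙 G)⁻¹
      have hf : ∀ a : RP G, a ≫ f = z * a * z⁻¹ * a⁻¹ := fun a => by
        have e : a ≫ (toUnit G ≫ z) = z := by
          rw [← Category.assoc, toUnit_unique (a ≫ toUnit G) (𝟙 _), Category.id_comp]
        simp only [f, MonObj.comp_mul, GrpObj.comp_inv, Category.comp_id, e]
      rw [Subgroup.mem_center_iff]
      intro a
      have h1 := key f _ h (fun b => by rw [hf]; simpa [commutatorElement_def] using ih (hz b)) a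
      rw [hf, hf, _root_.mul_one, mul_inv_cancel, inv_one, _root_.mul_one, mul_inv_eq_one, mul_inv_eq_iff_eq_mul] at h1
      exact h1.symm
  obtain ⟨n, hn⟩ := Group.IsNilpotent.nilpotent' (G := RP G)
  have hfin : (Set.univ : Set (RP G)).Finite := h.subset fun x _ => h2 n (hn ▸ Subgroup.mem_top x)
  have hid := key (𝟙 G) Set.univ hfin (fun _ => trivial) g
  simpa using hid

end Groth.Agent.UnipSplit
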