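import Groth.Agent.UnipSplit.CentInf
import Groth.Agent.Chev.RedCentre
import Groth.Agent.Chev.CentBC
import Groth.Agent.Chev.AntiAff
import Groth.Agent.Chev.WeylFinite
import Groth.Agent.Chev.CentCover
import Groth.Agent.GrMax.Containing
import Groth.Agent.RedLR.Unip
import Groth.Agent.S7986

/-!
# Unipotent groups over a perfect field have positive dimensional centre
-/

set_option autoImplicit false
set_option linter.style.haveILetI false
set_option backward.isDefEq.respectTransparency false
set_option maxHeartbeats 1000000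
set_option synthInstance.maxHeartbeats 400000

universe u

open CategoryTheory CategoryTheory.Limits MonoidalCategory CartesianMonoidalCategory MonObj GrpObj AlgebraicGeometry
open Groth.Agent.SubGen (rpt exists_rpt rpt_injective map_rpt)
open Groth.Agent.Chev (RP)

noncomputable section

namespace Groth.Agent.UnipSplit

open Groth.Agent.GrMax (fieldMap)

/-- Rational points of smooth connected groups without subtori form a nilpotent group. -/
theorem isNilpotent_rp {K : Type u} [Field K] [IsAlgClosed K] {U : Over (Spec (CommRingCat.of K))} [GrpObj U]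
    [IsAffine U.left] [Smooth U.hom] [ConnectedSpace U.left] (hU : Red.HasNoSubtorus K U) :
    Group.IsNilpotent (RP U) := by
  obtain ⟨A, _, e, he⟩ := FinHopf.exists_hopf (R := CommRingCat.of K) U
  haveI := he
  haveI : IsIso e.hom.left := inferInstanceAs (IsIso ((Over.forget _).map e.hom))
  haveI : Algebra.FiniteType K A := by
    have h0 : LocallyOfFiniteType (e.hom.left ≫ U.hom) := inferInstance
    rw [Over.w e.hom] at h0
    exact RingHom.finiteType_algebraMap.1 ((HasRingHomProperty.Spec_iff (P := @LocallyOfFiniteType)).1 h0)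
  haveI : _root_.IsReduced A := by
    haveI : IsReduced U.left := SmoothRed.isReduced_of_smooth_scheme U.hom
    haveI : IsReduced (Spec (CommRingCat.of A)) := isReduced_of_isOpenImmersion e.hom.left
    exact (affine_isReduced_iff (CommRingCat.of A)).mp inferInstance
  haveI := Groth.Agent.S7986.result K A (RedLR.isUnipotent_of_hasNoSubtorus e hU)
  exact Group.nilpotent_of_mulEquiv (Chev.ProjRep.ptsEquiv e).symm

variable {k : Type u} [Field k]

/-- A nontrivial smooth connected group without subtori over a perfect field has a nontrivial smooth connected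
central subgroup. -/
theorem exists_central [PerfectField k] (U : Over (Spec (CommRingCat.of k))) [GrpObj U] [IsAffine U.left]
    [Smooth U.hom] [ConnectedSpace U.left] (hU : Red.HasNoSubtorus k U) (hne : ¬ IsIso U.hom) :
    ∃ (Z : Over (Spec (CommRingCat.of k))) (_ : GrpObj Z) (i : Z ⟶ U), IsMonHom i ∧ IsClosedImmersion i.left ∧
      IsAffine Z.left ∧ Smooth Z.hom ∧ ConnectedSpace Z.left ∧ ¬ IsIso Z.hom ∧
      ∀ (X : Over (Spec (CommRingCat.of k))) (z : X ⟶ Z) (g : X ⟶ U), (z ≫ i) * g = g * (z ≫ i) := by
  haveI : IsAffineHom U.hom := isAffineHom_of_isAffine _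
  obtain ⟨C, _, c, hcm, hcc, hC⟩ := Chev.RedCentre.exists_centre U
  haveI := hcm; haveI := hcc
  haveI : Mono c := GrpField.SchImg.mono_of_isClosedImmersion c
  have hcent : Red.IsCentralizerOf (𝟙 U) c := ⟨hcm, inferInstance, fun X x => (hC X x).trans
    ⟨fun h X' a y => by simpa using (h X' a y).symm, fun h X' a y => by simpa using (h X' a y).symm⟩⟩
  haveI : LocallyOfFiniteType C.hom := by rw [← Over.w c]; infer_instance
  haveI : QuasiCompact C.hom := by rw [← Over.w c]; infer_instance
  obtain ⟨R, _, r, hrm, hrc, hrs, hRs⟩ := Chev.exists_red_group C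
  haveI := hrm; haveI := hrc; haveI := hrs; haveI := hRs
  haveI : QuasiCompact R.hom := by rw [← Over.w r]; infer_instance
  obtain ⟨Z, _, j, hjm, hjo, hjc, hZs, hZq, hZc⟩ := GrMax.exists_neutral R
  haveI := hjm; haveI := hjo; haveI := hjc
  let i : Z ⟶ U := j ≫ r ≫ c
  haveI : IsClosedImmersion i.left := inferInstanceAs (IsClosedImmersion (j.left ≫ r.left ≫ c.left))
  refine ⟨Z, inferInstance, i, inferInstance, inferInstance, isAffine_of_isAffineHom i.left, hZs, hZc,
    fun hiso => hne ?_, fun X z g => ?_⟩
  swap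
  · have h := (hC X (z ≫ i)).1 ⟨z ≫ j ≫ r, by simp [i]⟩ X (𝟙 X) g
    simpa using h.symm
  let L := AlgebraicClosure k
  let f := fieldMap (k := k) L
  let F := Over.pullback f
  haveI : IsAffineHom (Red.bc f U).hom := inferInstanceAs (IsAffineHom (pullback.snd U.hom f))
  haveI : IsAffine (Red.bc f U).left := isAffine_of_isAffineHom (Red.bc f U).hom
  haveI : Smooth (Red.bc f U).hom := inferInstanceAs (Smooth (pullback.snd U.hom f))
  haveI : ConnectedSpace (Red.bc f U).left := AutFinOrd.connectedSpace_bc f U
  haveI : IsSeparated (Red.bc f U).hom := inferInstance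
  haveI : IsReduced (Red.bc f U).left := SmoothRed.isReduced_of_smooth_scheme (Red.bc f U).hom
  haveI : LocallyOfFiniteType (F.obj C).hom := inferInstanceAs (LocallyOfFiniteType (pullback.snd C.hom f))
  haveI : LocallyOfFiniteType (F.obj R).hom := inferInstanceAs (LocallyOfFiniteType (pullback.snd R.hom f))
  haveI : LocallyOfFiniteType (F.obj Z).hom := inferInstanceAs (LocallyOfFiniteType (pullback.snd Z.hom f))
  haveI : QuasiCompact (F.obj R).hom := inferInstanceAs (QuasiCompact (pullback.snd R.hom f))
  haveI : IsOpenImmersion (F.map j).left := MorphismProperty.baseChange_map (P := @IsOpenImmersion) f j ‹_›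
  haveI : Surjective (F.map r).left := MorphismProperty.baseChange_map (P := @Surjective) f r ‹_›
  haveI := hiso
  haveI : IsIso (F.obj Z).hom := inferInstanceAs (IsIso (pullback.snd Z.hom f))
  haveI : Group.IsNilpotent (RP (Red.bc f U)) := isNilpotent_rp ((GrMax.hasNoSubtorus_bc_iff U).1 hU)
  have hZ1 : ∀ z : RP (F.obj Z), z = 1 := fun z =>
    Over.OverMorphism.ext ((cancel_mono (F.obj Z).hom).1 (by rw [Over.w, Over.w]))
  obtain ⟨s, hs⟩ := Chev.Borel.exists_finite_reps (F.map j)
  have hfin : (Subgroup.center (RP (Red.bc f U)) : Set (RP (Red.bc f U))).Finite := by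
    refine Set.Finite.subset ((s.finite_toSet).image fun m => m ≫ F.map r ≫ F.map c) fun z hz => ?_
    have hz' : ∀ a : RP (Red.bc f U), a * z = z * a := Subgroup.mem_center_iff.1 hz
    have e : (toUnit (Red.bc f U) ≫ z) * 𝟙 _ = 𝟙 _ * (toUnit (Red.bc f U) ≫ z) := by
      refine Chev.BorelFixed.hom_ext_rp fun a => ?_
      have h1 : a ≫ (toUnit (Red.bc f U) ≫ z) = z := by
        rw [← Category.assoc, toUnit_unique (a ≫ toUnit _) (𝟙 _), Category.id_comp]
      simp only [MonObj.comp_mul, h1, Category.comp_id]
      exact (hz' a).symm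
    obtain ⟨w, hw⟩ := ((Chev.CentBC.isCentralizerOf_bc f (𝟙 U) c hcent).2.2 _ z).2 fun X' x h => by
      have h1 := congrArg (h ≫ ·) e
      simp only [MonObj.comp_mul, Category.comp_id] at h1
      rw [toUnit_unique x (h ≫ toUnit (Red.bc f U))]
      simpa using h1
    obtain ⟨m₀, hm₀⟩ := Chev.Borel.exists_rp_of_mem_range (F.map r) w
      ((F.map r).left.surjective _)
    obtain ⟨m, hm, z₀, hz₀⟩ := hs m₀
    refine ⟨m, hm, ?_⟩
    show m ≫ F.map r ≫ F.map c = z
    rw [show m = m₀ by rw [hz₀, hZ1 z₀, MonObj.one_comp, _root_.mul_one], ← Category.assoc, hm₀, hw]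
  have h1 := eq_one_of_finite_centre hfin
  haveI : IsIso (F.obj U).hom := by
    haveI : IsIso (toUnit (Red.bc f U)) := ⟨η[Red.bc f U], Chev.BorelFixed.hom_ext_rp fun a => by
      rw [h1 a, MonObj.one_comp, MonObj.one_comp], toUnit_unique _ _⟩
    exact inferInstanceAs (IsIso ((Over.forget _).map (toUnit (Red.bc f U))))
  haveI : PreservesLimitsOfShape WalkingCospan F :=
    (Adjunction.rightAdjoint_preservesLimits (Over.mapPullbackAdj _)).preservesLimitsOfShape
  haveI : IsIso (F.map (toUnit U)) := by
    haveI : IsIso (F.obj (𝟙_ (Over (Spec (CommRingCat.of k))))).hom := by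
      haveI : IsIso (𝟙_ (Over (Spec (CommRingCat.of k)))).hom := inferInstanceAs (IsIso (𝟙 _))
      exact inferInstanceAs (IsIso (pullback.snd (𝟙_ (Over (Spec (CommRingCat.of k)))).hom f))
    haveI : IsIso ((F.map (toUnit U)).left ≫ (F.obj (𝟙_ (Over (Spec (CommRingCat.of k))))).hom) := by
      rw [Over.w]; infer_instance
    haveI : IsIso ((Over.forget _).map (F.map (toUnit U))) :=
      IsIso.of_isIso_comp_right (F.map (toUnit U)).left (F.obj (𝟙_ (Over (Spec (CommRingCat.of k))))).hom
    exact isIso_of_reflects_iso _ (Over.forget _)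
  haveI : IsIso (toUnit U) := Chev.Borel.isIso_of_isIso_pullback f (toUnit U)
  exact inferInstanceAs (IsIso ((Over.forget _).map (toUnit U)))

end Groth.Agent.UnipSplit
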