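import Groth.Agent.UnipSplit.Central
import Groth.Agent.Chev.LinSection
import Groth.Agent.GrMax.BaseChange
import Groth.Agent.DensePtsGrp.Closure
import Groth.Agent.PRed.Scheme
import Groth.Agent.S3271
import Groth.Agent.S7951
import Groth.Agent.S8198

/-!
# Central additive subgroups of unipotent groups over perfect fields
-/

set_option autoImplicit false
set_option linter.style.haveILetI false
set_option backward.isDefEq.respectTransparency false
set_option maxHeartbeats 1000000
set_option synthInstance.maxHeartbeats 400000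

universe u

open CategoryTheory Limits MonoidalCategory CartesianMonoidalCategory MonObj GrpObj AlgebraicGeometry
open scoped CategoryTheory.Obj TensorProduct
open Groth.Agent.MTBridge (specGrp)
open Groth.Agent.GrMax (fieldMap)

noncomputable section

namespace Groth.Agent.UnipSplit

variable {k : Type u} [Field k]

section Ga

attribute [-instance] ULift.smulLeft ULift.module

/-- A nontrivial group generated by primitive coordinates contains the additive group. -/
theorem ga_of_primitive {U : Over (Spec (CommRingCat.of k))} [GrpObj U] {A : Type u} [CommRing A] [HopfAlgebra k A]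
    (e : (Spec (CommRingCat.of A)).asOver (Spec (CommRingCat.of k)) ≅ U) [IsMonHom e.hom] {n : ℕ} (x : Fin n → A)
    (hind : AlgebraicIndependent k x) (hgen : Algebra.adjoin k (Set.range x) = ⊤)
    (hprim : ∀ i, Coalgebra.comul (R := k) (x i) = x i ⊗ₜ[k] (1 : A) + (1 : A) ⊗ₜ[k] x i) (hne : ¬ IsIso U.hom) :
    ∃ i : Red.Ga (Spec (CommRingCat.of k)) ⟶ U, IsMonHom i ∧ IsClosedImmersion i.left := by
  haveI : Nontrivial A := (Bialgebra.counitAlgHom k A).toRingHom.domain_nontrivial
  have hbij : Function.Bijective (MvPolynomial.aeval (R := k) x) := ⟨hind, fun a => by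
    have ha : a ∈ (MvPolynomial.aeval (R := k) x).range := by
      rw [← Algebra.adjoin_range_eq_range_aeval, hgen]; exact Algebra.mem_top
    exact ha⟩
  let r := AlgEquiv.ofBijective _ hbij
  have hn : Nonempty (Fin n) := by
    rw [← not_isEmpty_iff]
    intro hemp
    refine hne ?_
    haveI : IsIso e.hom.left := inferInstanceAs (IsIso ((Over.forget _).map e.hom))
    have hsurj : Function.Bijective (algebraMap k A) := by
      refine ⟨(algebraMap k A).injective, fun a => ?_⟩
      obtain ⟨q, rfl⟩ := hbij.2 a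
      exact ⟨MvPolynomial.isEmptyAlgEquiv k (Fin n) q, by
        rw [← AlgHom.commutes (MvPolynomial.aeval (R := k) x)]
        congr 1
        exact (MvPolynomial.isEmptyAlgEquiv k (Fin n)).symm_apply_apply q⟩
    haveI : IsIso (CommRingCat.ofHom (algebraMap k A)) := (ConcreteCategory.isIso_iff_bijective _).2 hsurj
    have hw : e.hom.left ≫ U.hom = Spec.map (CommRingCat.ofHom (algebraMap k A)) := Over.w e.hom
    rw [(IsIso.eq_inv_comp e.hom.left).2 hw]
    infer_instance
  obtain ⟨a₀⟩ := hn
  letI : Algebra (ULift.{u} ℤ) k := ((Int.castRingHom k).comp (ULift.ringEquiv.toRingHom)).toAlgebra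
  let S := SymmetricAlgebra (ULift.{u} ℤ) (ULift.{u} ℤ)
  obtain ⟨jG⟩ := MTBridge.nonempty_bc_specGrp (ULift.{u} ℤ) k S
  rw [specULiftZIsTerminal.hom_ext (Spec.map (CommRingCat.ofHom (algebraMap (ULift.{u} ℤ) k)))
    (IsTerminal.from specULiftZIsTerminal _)] at jG
  let g : k ⊗[ULift.{u} ℤ] S := 1 ⊗ₜ SymmetricAlgebra.ι _ _ (1 : ULift.{u} ℤ)
  let ψa : A →ₐ[k] k ⊗[ULift.{u} ℤ] S :=
    (MvPolynomial.aeval fun i => if i = a₀ then g else 0).comp r.symm.toAlgHom
  have hψx : ∀ i, ψa (x i) = if i = a₀ then g else 0 := fun i => by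
    have : r.symm (x i) = MvPolynomial.X i := by
      rw [AlgEquiv.symm_apply_eq]; exact (MvPolynomial.aeval_X x i).symm
    show MvPolynomial.aeval _ (r.symm (x i)) = _
    rw [this, MvPolynomial.aeval_X]
  have hcg : Coalgebra.counit (R := k) g = 0 := by
    simp only [g, TensorProduct.counit_tmul]
    erw [SymmetricAlgebra.counit_ι]
    exact (Algebra.smul_def _ _).trans ((congrArg (· * _) (map_zero _)).trans (zero_mul _))
  have hdg : Coalgebra.comul (R := k) g = g ⊗ₜ[k] (1 : k ⊗[ULift.{u} ℤ] S) + (1 : k ⊗[ULift.{u} ℤ] S) ⊗ₜ[k] g := by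
    simp only [g, TensorProduct.comul_tmul]
    erw [SymmetricAlgebra.comul_ι]
    simp [TensorProduct.tmul_add, Algebra.TensorProduct.one_def]
  let ψ : A →ₐc[k] k ⊗[ULift.{u} ℤ] S := BialgHom.ofAlgHom ψa
    (AlgHom.ext_of_adjoin_eq_top hgen (by
      rintro _ ⟨i, rfl⟩
      show Coalgebra.counit (R := k) (ψa (x i)) = Coalgebra.counit (R := k) (x i)
      rw [hψx, UnipZero.counit_prim (UnipZero.mem_prim.2 (hprim i))]
      split_ifs
      · exact hcg
      · exact map_zero _))
    (AlgHom.ext_of_adjoin_eq_top hgen (by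
      rintro _ ⟨i, rfl⟩
      show Algebra.TensorProduct.map ψa ψa (Coalgebra.comul (R := k) (x i)) = Coalgebra.comul (R := k) (ψa (x i))
      rw [hprim, hψx, map_add, Algebra.TensorProduct.map_tmul, Algebra.TensorProduct.map_tmul, hψx, map_one]
      split_ifs
      · exact hdg.symm
      · simp))
  have hψsurj : Function.Surjective ψ := by
    intro t
    suffices ht : t ∈ ψa.range from ht
    induction t using TensorProduct.induction_on with
    | zero => exact zero_mem _
    | add a b ha hb => exact add_mem ha hb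
    | tmul c z =>
      have hz : (1 : k) ⊗ₜ[ULift.{u} ℤ] z ∈ ψa.range := by
        induction z using SymmetricAlgebra.induction with
        | algebraMap m =>
          rw [← Algebra.TensorProduct.tmul_one_eq_one_tmul]
          exact ψa.range.algebraMap_mem _
        | «ι» m =>
          have hm : m = m.down • (1 : ULift.{u} ℤ) := by
            rw [zsmul_one]; exact ULift.ext _ _ (by simp)
          rw [hm, map_zsmul, show (1 : k) ⊗ₜ[ULift.{u} ℤ] (m.down • SymmetricAlgebra.ι (ULift.{u} ℤ) (ULift.{u} ℤ) 1) =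
            m.down • g from map_zsmul (TensorProduct.mk (ULift.{u} ℤ) k S 1) _ _]
          exact zsmul_mem (show g ∈ ψa.range from ⟨x a₀, (hψx a₀).trans (if_pos rfl)⟩) _
        | mul a b ha hb =>
          rw [show (1 : k) ⊗ₜ[ULift.{u} ℤ] (a * b) = (1 : k) ⊗ₜ a * (1 : k) ⊗ₜ b by
            rw [Algebra.TensorProduct.tmul_mul_tmul, _root_.mul_one]]
          exact mul_mem ha hb
        | add a b ha hb => rw [TensorProduct.tmul_add]; exact add_mem ha hb
      rw [show c ⊗ₜ[ULift.{u} ℤ] z = c • ((1 : k) ⊗ₜ[ULift.{u} ℤ] z) by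
        rw [TensorProduct.smul_tmul', smul_eq_mul, _root_.mul_one]]
      exact Subalgebra.smul_mem _ hz _
  let ug : specGrp k (k ⊗[ULift.{u} ℤ] S) ⟶ specGrp k A :=
    (hopfSpec (CommRingCat.of k)).map (CommHopfAlgCat.ofHom (R := k) ψ).op
  let eA : specGrp k A ≅ Grp.mk U := Grp.mkIso' e
  let I : Grp.mk (Red.Ga (Spec (CommRingCat.of k))) ⟶ Grp.mk U := jG.hom ≫ ug ≫ eA.hom
  refine ⟨I.hom.hom, I.hom.isMonHom_hom, ?_⟩
  haveI : IsIso jG.hom.hom.hom.left :=
    inferInstanceAs (IsIso ((Over.forget _).map ((Grp.forget _).map jG.hom)))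
  haveI : IsIso eA.hom.hom.hom.left :=
    inferInstanceAs (IsIso ((Over.forget _).map ((Grp.forget _).map eA.hom)))
  have h0 : IsClosedImmersion (Spec.map (CommRingCat.ofHom (ψ : A →ₐ[k] k ⊗[ULift.{u} ℤ] S).toRingHom)) :=
    IsClosedImmersion.spec_of_surjective (CommRingCat.ofHom (ψ : A →ₐ[k] k ⊗[ULift.{u} ℤ] S).toRingHom) hψsurj
  haveI : IsClosedImmersion ug.hom.hom.left := h0
  show IsClosedImmersion (jG.hom.hom.hom.left ≫ ug.hom.hom.left ≫ eA.hom.hom.hom.left)
  infer_instance

end Ga

variable [PerfectField k]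

/-- A nontrivial smooth connected group without subtori over a perfect field has a central additive subgroup. -/
theorem exists_central_ga (U : Over (Spec (CommRingCat.of k))) [GrpObj U] [IsAffine U.left] [Smooth U.hom]
    [ConnectedSpace U.left] (hU : Red.HasNoSubtorus k U) (hne : ¬ IsIso U.hom) :
    ∃ i : Red.Ga (Spec (CommRingCat.of k)) ⟶ U, IsMonHom i ∧ IsClosedImmersion i.left ∧
      ∀ (X : Over (Spec (CommRingCat.of k))) (z : X ⟶ Red.Ga (Spec (CommRingCat.of k))) (g : X ⟶ U),
        (z ≫ i) * g = g * (z ≫ i) := by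
  obtain ⟨Z, _, iZ, hiZ, hiZc, hZa, hZs, hZc, hZne, hcentral⟩ := exists_central U hU hne
  haveI := hiZ; haveI := hiZc; haveI := hZa; haveI := hZs; haveI := hZc
  haveI : Mono iZ := GrpField.SchImg.mono_of_isClosedImmersion iZ
  suffices h : ∃ i : Red.Ga (Spec (CommRingCat.of k)) ⟶ Z, IsMonHom i ∧ IsClosedImmersion i.left by
    obtain ⟨i, hi, hic⟩ := h
    haveI := hi; haveI := hic
    exact ⟨i ≫ iZ, inferInstance, inferInstanceAs (IsClosedImmersion (i.left ≫ iZ.left)), fun X z g => by
      simpa using hcentral X (z ≫ i) g⟩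
  have hcomm : ∀ (X : Over (Spec (CommRingCat.of k))) (g h : X ⟶ Z), g * h = h * g := fun X g h => by
    rw [← cancel_mono iZ, MonObj.mul_comp, MonObj.mul_comp]
    exact hcentral X g (h ≫ iZ)
  haveI : IsCommMonObj Z := ⟨by
    rw [← cancel_mono iZ]
    have h := congrArg (· ≫ iZ) (hcomm _ (snd Z Z) (fst Z Z))
    simp only [Hom.mul_def, lift_snd_fst, lift_fst_snd, Category.id_comp] at h
    simpa using h⟩
  have hZU : Red.HasNoSubtorus k Z := fun T _ j _ _ hT => hU T (j ≫ iZ) hT
  let L := AlgebraicClosure k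
  let f := fieldMap (k := k) L
  let F := Over.pullback f
  haveI : IsAffineHom Z.hom := isAffineHom_of_isAffine _
  haveI : IsAffineHom (Red.bc f Z).hom := inferInstanceAs (IsAffineHom (pullback.snd Z.hom f))
  haveI : IsAffine (Red.bc f Z).left := isAffine_of_isAffineHom (Red.bc f Z).hom
  haveI : Smooth (Red.bc f Z).hom := inferInstanceAs (Smooth (pullback.snd Z.hom f))
  haveI : ConnectedSpace (Red.bc f Z).left := AutFinOrd.connectedSpace_bc f Z
  have hZL : Red.HasNoSubtorus L (Red.bc f Z) := (GrMax.hasNoSubtorus_bc_iff Z).1 hZU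
  obtain ⟨p, hp⟩ := CharP.exists k
  rcases CharP.char_is_prime_or_zero k p with hpr | rfl
  · haveI := Fact.mk hpr
    haveI : CharP L p := charP_of_injective_algebraMap (algebraMap k L).injective p
    haveI : PreservesLimitsOfShape WalkingCospan F :=
      (Adjunction.rightAdjoint_preservesLimits (Over.mapPullbackAdj _)).preservesLimitsOfShape
    obtain ⟨N, hN⟩ := WittUnip.exists_ug_of_noSubtorus (p := p) (Red.bc f Z) hZL
    have hkill : ∃ m, (𝟙 Z) ^ (p ^ m) = 1 := ⟨N, DensePtsGrp.map_pullback_inj f (by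
      rw [Chev.bc_map_pow, CategoryTheory.Functor.map_id, Functor.map_one]
      exact hN)⟩
    classical
    obtain ⟨m, hm⟩ : ∃ m, Nat.find hkill = m + 1 := by
      refine Nat.exists_eq_succ_of_ne_zero fun h0 => hZne ?_
      have h := Nat.find_spec hkill
      rw [h0, pow_zero, pow_one] at h
      haveI : IsIso (toUnit Z) := ⟨η[Z], (Hom.one_def).symm.trans h.symm, toUnit_unique _ _⟩
      exact inferInstanceAs (IsIso ((Over.forget _).map (toUnit Z)))
    let φ : Z ⟶ Z := (𝟙 Z) ^ (p ^ m)
    haveI : IsMonHom φ := Chev.isMonHom_pow _ _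
    haveI : LocallyOfFiniteType Z.hom := inferInstance
    obtain ⟨N₀, _, i₀, g, hi₀, hi₀c, hg, hgs, hN₀⟩ := DensePtsGrp.exists_smooth_image φ
    haveI := hi₀; haveI := hi₀c; haveI := hgs; haveI := hN₀
    haveI : Mono i₀ := GrpField.SchImg.mono_of_isClosedImmersion i₀
    haveI : IsAffine N₀.left := isAffine_of_isAffineHom i₀.left
    haveI : ConnectedSpace N₀.left := g.left.surjective.connectedSpace g.left.continuous
    have hcomm₀ : ∀ (X : Over (Spec (CommRingCat.of k))) (a b : X ⟶ N₀), a * b = b * a := fun X a b => by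
      rw [← cancel_mono i₀, MonObj.mul_comp, MonObj.mul_comp]
      exact hcomm X _ _
    have hid : i₀ ^ p = 1 := by
      haveI : IsReduced N₀.left := SmoothRed.isReduced_of_smooth_scheme N₀.hom
      haveI : IsDominant g.left := ⟨g.left.surjective.denseRange⟩
      haveI : IsSeparated Z.hom := inferInstance
      have h1 : g ≫ (i₀ ^ p) = g ≫ 1 := by
        rw [MonObj.comp_pow, hg, MonObj.comp_one, ← pow_mul, ← pow_succ, ← hm]
        exact Nat.find_spec hkill
      exact Over.OverMorphism.ext (ext_of_isDominant_of_isSeparated Z.hom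
        ((Over.w _).trans (Over.w _).symm) g.left (congrArg Over.Hom.left h1))
    have htors : ∀ (X : Over (Spec (CommRingCat.of k))) (a : X ⟶ N₀), a ^ p = 1 := fun X a => by
      rw [← cancel_mono i₀, MonObj.pow_comp, MonObj.one_comp, ← MonObj.comp_pow, hid, MonObj.comp_one]
    have hne₀ : ¬ IsIso N₀.hom := fun h => Nat.find_min hkill (m := m) (by omega) (by
      haveI := h
      show φ = 1
      rw [← hg, show g = 1 from Over.OverMorphism.ext ((cancel_mono N₀.hom).1 (by rw [Over.w, Over.w])),
        MonObj.one_comp])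
    obtain ⟨A, _, _, e, he, _, hs, _, hk, hA⟩ := PRed.exists_data (p := p) N₀ hcomm₀ htors
    haveI := he; haveI := hs
    haveI := PRed.isDomain_of_connected e
    obtain ⟨n, ⟨θ⟩⟩ := PRed.exists_equiv_of_perfect p hA
    let b := Pi.basisFun k (Fin n)
    let E : MvPolynomial (Fin n) k ≃ₐ[k] A :=
      (SymmetricAlgebra.equivMvPolynomial b).symm.trans (θ : SymmetricAlgebra k (Fin n → k) ≃ₐ[k] A)
    let x : Fin n → A := fun i => θ (SymmetricAlgebra.ι k (Fin n → k) (b i))
    have hx : ∀ i, x i = E (MvPolynomial.X i) := fun i => by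
      simp [x, E, SymmetricAlgebra.equivMvPolynomial]
    have hae : MvPolynomial.aeval x = E.toAlgHom := MvPolynomial.algHom_ext fun i => by simp [hx]
    obtain ⟨i, hi, hic⟩ := ga_of_primitive e x
      (show Function.Injective (MvPolynomial.aeval (R := k) x) by rw [hae]; exact E.injective)
      (by rw [Algebra.adjoin_range_eq_range_aeval, hae]; exact (AlgHom.range_eq_top _).2 E.surjective)
      (fun i => by
        show Coalgebra.comul (R := k) (θ _) = _
        rw [← CoalgHomClass.map_comp_comul_apply θ, SymmetricAlgebra.comul_ι]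
        simp [x]) hne₀
    haveI := hi; haveI := hic
    exact ⟨i ≫ i₀, inferInstance, inferInstanceAs (IsClosedImmersion (i.left ≫ i₀.left))⟩
  · haveI := CharP.charP_to_charZero k
    obtain ⟨A, _, e, he⟩ := FinHopf.exists_hopf (R := CommRingCat.of k) Z
    haveI := he
    haveI : IsIso e.hom.left := inferInstanceAs (IsIso ((Over.forget _).map e.hom))
    haveI : Algebra.FiniteType k A := by
      have h0 : LocallyOfFiniteType (e.hom.left ≫ Z.hom) := inferInstance
      rw [Over.w e.hom] at h0
      exact RingHom.finiteType_algebraMap.1 ((HasRingHomProperty.Spec_iff (P := @LocallyOfFiniteType)).1 h0)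
    haveI : Coalgebra.IsCocomm k A := WittUnip.isCocomm_of_iso (k := k) (A := A) e
    obtain ⟨a, ha, -⟩ := GrMax.exists_bcIso L e
    haveI := ha
    haveI : _root_.IsReduced (L ⊗[k] A) := by
      haveI : IsReduced (Red.bc f Z).left := SmoothRed.isReduced_of_smooth_scheme (Red.bc f Z).hom
      haveI : IsIso a.hom.left := inferInstanceAs (IsIso ((Over.forget _).map a.hom))
      haveI : IsReduced (Spec (CommRingCat.of (L ⊗[k] A))) := isReduced_of_isOpenImmersion a.hom.left
      exact (affine_isReduced_iff (CommRingCat.of (L ⊗[k] A))).mp inferInstance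
    have hunip : HopfRep.IsUnipotent k A :=
      (Groth.Agent.S7951.result k L A).2 (RedLR.isUnipotent_of_hasNoSubtorus a hZL)
    obtain ⟨n, x, hind, hgen, hprim⟩ := Groth.Agent.S3271.result k A hunip
    exact ga_of_primitive e x hind hgen hprim hZne

end Groth.Agent.UnipSplit
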